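import Mathlib
import Cfsg.Agent.PLocal.AmbSyl
import Cfsg.Agent.TwoTr.A45Base
import Cfsg.Agent.TwoTr.KosBase
import Cfsg.Agent.Spor.J1Main

/-! A class of subgroups of order 11 whose pairs generate `L₂(11)` or `J₁`: basic set-up. -/

set_option autoImplicit false
set_option linter.unusedSectionVars false

namespace Cfsg.Agent.E11

open Subgroup MulAction Cfsg.Agent.PLocal.Amb Cfsg.Agent.TwoTr

variable {G : Type*} [Group G]

instance f11 : Fact (Nat.Prime 11) := ⟨by norm_num⟩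
instance f5 : Fact (Nat.Prime 5) := ⟨by norm_num⟩

/-- the exponent by which `g` acts on `A` -/
noncomputable def kp (A : Subgroup G) (g : G) : ZMod 11 := by
  classical
  exact if h : ∃ k : ZMod 11, ∀ a ∈ A, g * a * g⁻¹ = a ^ k.val then h.choose else 0

theorem pow_val_mul {a : G} (ha : a ^ 11 = 1) (k l : ZMod 11) :
    (a ^ k.val) ^ l.val = a ^ (k * l).val := by
  rw [← pow_mul, ZMod.val_mul, pow_eq_pow_mod _ ha]

theorem pow_val_add {a : G} (ha : a ^ 11 = 1) (k l : ZMod 11) :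
    a ^ k.val * a ^ l.val = a ^ (k + l).val := by
  rw [← pow_add, ZMod.val_add, pow_eq_pow_mod _ ha]

section
variable {A : Subgroup G} (hA : Nat.card A = 11)
include hA

theorem pow11 {a : G} (ha : a ∈ A) : a ^ 11 = 1 := by
  have := pow_card_eq_one' (G := A) (x := ⟨a, ha⟩)
  rw [hA] at this
  exact congrArg Subtype.val this

theorem ord11 {a : G} (ha : a ∈ A) (h1 : a ≠ 1) : orderOf a = 11 :=
  orderOf_eq_prime (pow11 hA ha) h1

theorem zpowers_eq11 {a : G} (ha : a ∈ A) (h1 : a ≠ 1) : zpowers a = A := by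
  have : Finite A := Nat.finite_of_card_ne_zero (by omega)
  exact eq_of_le_of_card_ge (zpowers_le.2 ha) (by rw [Nat.card_zpowers, ord11 hA ha h1, hA])

theorem exists_gen11 : ∃ a ∈ A, a ≠ 1 := by
  by_contra h
  push Not at h
  rw [(eq_bot_iff_forall A).2 h, card_bot] at hA
  omega

theorem exists_val {a b : G} (ha : a ∈ A) (h1 : a ≠ 1) (hb : b ∈ A) :
    ∃ k : ZMod 11, b = a ^ k.val := by
  classical
  rw [← zpowers_eq11 hA ha h1,
    (isOfFinOrder_iff_pow_eq_one.2 ⟨11, by norm_num, pow11 hA ha⟩).mem_zpowers_iff_mem_range_orderOf]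
    at hb
  obtain ⟨n, -, rfl⟩ := Finset.mem_image.1 hb
  exact ⟨n, by rw [ZMod.val_natCast, ← pow_eq_pow_mod _ (pow11 hA ha)]⟩

theorem val_inj {a : G} (ha : a ∈ A) (h1 : a ≠ 1) {k l : ZMod 11} (e : a ^ k.val = a ^ l.val) :
    k = l := by
  rw [pow_eq_pow_iff_modEq, ord11 hA ha h1, ← ZMod.natCast_eq_natCast_iff] at e
  simpa using e

theorem comm11 {a b : G} (ha : a ∈ A) (hb : b ∈ A) : a * b = b * a := by
  by_cases h : a = 1
  · simp [h]
  obtain ⟨k, rfl⟩ := exists_val hA ha h hb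
  exact (Commute.self_pow a _).eq

theorem kp_spec {g : G} (hg : g ∈ 𝐍[A]) {a : G} (ha : a ∈ A) : g * a * g⁻¹ = a ^ (kp A g).val := by
  have h : ∃ k : ZMod 11, ∀ a ∈ A, g * a * g⁻¹ = a ^ k.val := by
    obtain ⟨b, hb, b1⟩ := exists_gen11 hA
    obtain ⟨k, hk⟩ := exists_val hA hb b1 (conj_mem_of_mem_normalizer hg hb)
    refine ⟨k, fun a ha => ?_⟩
    obtain ⟨l, rfl⟩ := exists_val hA hb b1 ha
    rw [← conj_pow, hk, ← pow_mul, ← pow_mul, mul_comm]
  unfold kp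
  rw [dif_pos h]
  exact h.choose_spec a ha

theorem kp_eq {g : G} (hg : g ∈ 𝐍[A]) {a : G} (ha : a ∈ A) (h1 : a ≠ 1) {k : ZMod 11}
    (e : g * a * g⁻¹ = a ^ k.val) : kp A g = k :=
  val_inj hA ha h1 ((kp_spec hA hg ha).symm.trans e)

theorem kp_mul {g h : G} (hg : g ∈ 𝐍[A]) (hh : h ∈ 𝐍[A]) : kp A (g * h) = kp A g * kp A h := by
  obtain ⟨a, ha, a1⟩ := exists_gen11 hA
  refine kp_eq hA (mul_mem hg hh) ha a1 ?_
  rw [show g * h * a * (g * h)⁻¹ = g * (h * a * h⁻¹) * g⁻¹ by group, kp_spec hA hh ha, ← conj_pow,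
    kp_spec hA hg ha, pow_val_mul (pow11 hA ha)]

theorem kp_eq_one_iff {g : G} (hg : g ∈ 𝐍[A]) : kp A g = 1 ↔ g ∈ 𝐂[A] := by
  constructor
  · intro h
    refine mem_centralizer_iff.2 fun a ha => ?_
    have := kp_spec hA hg ha
    rw [h, ZMod.val_one, pow_one] at this
    rw [← mul_inv_eq_iff_eq_mul.1 this]
  · intro h
    obtain ⟨a, ha, a1⟩ := exists_gen11 hA
    refine kp_eq hA hg ha a1 ?_
    rw [ZMod.val_one, pow_one, ← mem_centralizer_iff.1 h a ha, mul_inv_cancel_right]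

theorem kp_cj {g : G} (hg : g ∈ 𝐍[A]) (x : G) : kp cj(x, A) (x * g * x⁻¹) = kp A g := by
  obtain ⟨a, ha, a1⟩ := exists_gen11 hA
  refine kp_eq ((card_cj x A).trans hA) (by rw [normalizer_cj]; exact conj_mem_cj x hg)
    (conj_mem_cj x ha) (by simpa using a1) ?_
  rw [conj_pow, ← kp_spec hA hg ha]
  group

end

/-- simple of order 660 -/
def IsL (L : Subgroup G) : Prop := IsSimpleGroup L ∧ Nat.card L = 660

/-- isomorphic to `J₁` -/
def IsJ (J : Subgroup G) : Prop := Spor.IsoJ1 J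

theorem IsJ.card {J : Subgroup G} (h : IsJ J) : Nat.card J = 175560 := by
  obtain ⟨e⟩ := h
  rw [Nat.card_congr e.toEquiv, Spor.J1c.card_J1]

theorem IsJ.simple {J : Subgroup G} (h : IsJ J) : IsSimpleGroup J := by
  obtain ⟨e⟩ := h
  have := Spor.J1c.isSimpleGroup_J1
  exact e.isSimpleGroup

/-- conjugation as an isomorphism of subgroups -/
noncomputable def cjE (g : G) (M : Subgroup G) : M ≃* cj(g, M) := (MulAut.conj g).subgroupMap M

theorem IsL.cj {L : Subgroup G} (h : IsL L) (g : G) : IsL cj(g, L) := by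
  have := h.1
  exact ⟨(cjE g L).symm.isSimpleGroup, (card_cj g L).trans h.2⟩

theorem IsJ.cj {J : Subgroup G} (h : IsJ J) (g : G) : IsJ cj(g, J) := by
  obtain ⟨e⟩ := h
  exact ⟨(cjE g J).symm.trans e⟩

/-- one of the two -/
def LJ (M : Subgroup G) : Prop := IsL M ∨ IsJ M

theorem LJ.simple {M : Subgroup G} (h : LJ M) : IsSimpleGroup M := h.elim (·.1) (·.simple)

theorem LJ.card {M : Subgroup G} (h : LJ M) : Nat.card M = 660 ∨ Nat.card M = 175560 :=
  h.imp (·.2) (·.card)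

theorem LJ.cj {M : Subgroup G} (h : LJ M) (g : G) : LJ cj(g, M) := h.imp (·.cj g) (·.cj g)

theorem LJ.eq_of_normal {M N : Subgroup G} (h : LJ M) (hN : N ≤ M) (hn : M ≤ 𝐍[N]) :
    N = ⊥ ∨ N = M := by
  have := h.simple
  rcases (normal_subgroupOf' hn).eq_bot_or_eq_top with e | e
  · left
    rw [← map_subgroupOf_of_le hN, e, Subgroup.map_bot]
  · right
    exact le_antisymm hN (subgroupOf_eq_top.1 e)

variable {Ω : Type*} [MulAction G Ω]

/-- the basic hypothesis -/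
structure S0 (σ : Ω → Subgroup G) : Prop where
  inj : Function.Injective σ
  eqv : ∀ (g : G) (A : Ω), σ (g • A) = cj(g, σ A)
  card : ∀ A, Nat.card (σ A) = 11
  pair : ∀ A B, A ≠ B → LJ (σ A ⊔ σ B)

/-- the points in a subgroup -/
def pts (σ : Ω → Subgroup G) (M : Subgroup G) : Set Ω := {C | σ C ≤ M}

namespace S0

variable {σ : Ω → Subgroup G} (h : S0 σ)
include h

theorem fix_iff {g : G} {A : Ω} : g • A = A ↔ g ∈ 𝐍[σ A] := by
  rw [← cj_eq_iff, ← h.eqv, h.inj.eq_iff]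

theorem fix_of_mem {a : G} {A : Ω} (ha : a ∈ σ A) : a • A = A := h.fix_iff.2 (le_normalizer ha)

theorem fix_of_cent {g : G} {A : Ω} (hg : g ∈ 𝐂[σ A]) : g • A = A :=
  h.fix_iff.2 (centralizer_le_normalizer' _ hg)

theorem mem_cent {a : G} {A : Ω} (ha : a ∈ σ A) : a ∈ 𝐂[σ A] :=
  mem_centralizer_iff.2 fun _ hb => comm11 (h.card A) hb ha

theorem cent_smul {g x : G} {A : Ω} : x * g * x⁻¹ ∈ 𝐂[σ (x • A)] ↔ g ∈ 𝐂[σ A] := by
  rw [h.eqv, centralizer_cj, conj_mem_cj_iff]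

theorem k_mul {g x : G} {A : Ω} (hg : g • A = A) (hx : x • A = A) :
    kp (σ A) (g * x) = kp (σ A) g * kp (σ A) x :=
  kp_mul (h.card A) (h.fix_iff.1 hg) (h.fix_iff.1 hx)

theorem k_one_iff {g : G} {A : Ω} (hg : g • A = A) : kp (σ A) g = 1 ↔ g ∈ 𝐂[σ A] :=
  kp_eq_one_iff (h.card A) (h.fix_iff.1 hg)

theorem k_cent {g : G} {A : Ω} (hg : g ∈ 𝐂[σ A]) : kp (σ A) g = 1 :=
  (h.k_one_iff (h.fix_of_cent hg)).2 hg

theorem k_one (A : Ω) : kp (σ A) 1 = 1 := h.k_cent (one_mem _)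

theorem k_pow {g : G} {A : Ω} (hg : g • A = A) (n : ℕ) : kp (σ A) (g ^ n) = kp (σ A) g ^ n := by
  induction n with
  | zero => rw [pow_zero, pow_zero, h.k_one]
  | succ n ih => rw [pow_succ, pow_succ, h.k_mul (pow_mem (mem_stabilizer_iff.2 hg) n) hg, ih]

theorem k_inv {g : G} {A : Ω} (hg : g • A = A) : kp (σ A) g⁻¹ * kp (σ A) g = 1 := by
  rw [← h.k_mul (inv_mem (mem_stabilizer_iff.2 hg)) hg, inv_mul_cancel, h.k_one]

theorem k_ne {g : G} {A : Ω} (hg : g • A = A) : kp (σ A) g ≠ 0 := fun e => by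
  have := h.k_inv hg
  rw [e, mul_zero] at this
  exact zero_ne_one this

theorem k_conj {g : G} {A : Ω} (hg : g • A = A) (x : G) :
    kp (σ (x • A)) (x * g * x⁻¹) = kp (σ A) g := by
  rw [h.eqv, kp_cj (h.card A) (h.fix_iff.1 hg)]

theorem k_conj' {g x : G} {A : Ω} (hg : g • A = A) (hx : x • A = A) :
    kp (σ A) (x * g * x⁻¹) = kp (σ A) g := by
  nth_rewrite 1 [← hx]
  exact h.k_conj hg x

theorem smul_coord {g a : G} {A B : Ω} (hg : g • A = A) (ha : a ∈ σ A) :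
    g • a • B = a ^ (kp (σ A) g).val • g • B := by
  rw [← kp_spec (h.card A) (h.fix_iff.1 hg) ha, mul_smul, mul_smul, inv_smul_smul]

theorem smul_pts {g : G} {M : Subgroup G} (hg : g ∈ 𝐍[M]) {C : Ω} (hC : C ∈ pts σ M) :
    g • C ∈ pts σ M := by
  change σ _ ≤ M
  rw [h.eqv]
  exact cj_le_of_mem_normalizer hC hg

theorem smul_pts' {g : G} {M : Subgroup G} (hg : g ∈ M) {C : Ω} (hC : C ∈ pts σ M) :
    g • C ∈ pts σ M := h.smul_pts (le_normalizer hg) hC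

theorem smul_pts_cj {g : G} {M : Subgroup G} {C : Ω} : g • C ∈ pts σ cj(g, M) ↔ C ∈ pts σ M := by
  change σ _ ≤ _ ↔ σ _ ≤ _
  rw [h.eqv, cj_le_cj_iff]

theorem norm_pair {g : G} {A B : Ω} (hA : g • A = A) (hB : g • B = B) : g ∈ 𝐍[σ A ⊔ σ B] := by
  rw [← cj_eq_iff, cj_sup, ← h.eqv, ← h.eqv, hA, hB]

theorem norm_swap {g : G} {A B : Ω} (hA : g • A = B) (hB : g • B = A) : g ∈ 𝐍[σ A ⊔ σ B] := by
  rw [← cj_eq_iff, cj_sup, ← h.eqv, ← h.eqv, hA, hB, sup_comm]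

/-- a point acts semiregularly on the other points -/
theorem eq_of_fix {a : G} {A B : Ω} (ha : a ∈ σ A) (a1 : a ≠ 1) (hB : a • B = B) : A = B := by
  by_contra hne
  have h1 : σ A ≤ 𝐍[σ B] := by
    rw [← zpowers_eq11 (h.card A) ha a1, zpowers_le]
    exact h.fix_iff.1 hB
  rcases (h.pair A B hne).eq_of_normal le_sup_right (sup_le h1 le_normalizer) with e | e
  · have := h.card B
    rw [e, card_bot] at this
    omega
  · have := (h.pair A B hne).card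
    rw [← e, h.card] at this
    omega

theorem inf_eq_bot {A B : Ω} (hne : A ≠ B) : σ A ⊓ σ B = ⊥ :=
  (eq_bot_iff_forall _).2 fun _ hx => by_contra fun h1 => hne (h.eq_of_fix hx.1 h1 (h.fix_of_mem hx.2))

theorem smul_inj {a b : G} {A B : Ω} (hne : A ≠ B) (ha : a ∈ σ A) (hb : b ∈ σ A)
    (e : a • B = b • B) : a = b := by
  by_contra h1
  exact hne (h.eq_of_fix (mul_mem (inv_mem hb) ha) (fun e => h1 (inv_mul_eq_one.1 e).symm)
    (by rw [mul_smul, e, inv_smul_smul]))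

theorem smul_ne {a : G} {A B : Ω} (hne : A ≠ B) (ha : a ∈ σ A) : a • B ≠ A := fun e =>
  hne (smul_left_cancel a ((h.fix_of_mem ha).trans e.symm))

variable [Finite G]

theorem finite : Finite Ω := Finite.of_injective σ h.inj

theorem isSyl {M : Subgroup G} (hM : ¬ 121 ∣ Nat.card M) {A : Ω} (hA : A ∈ pts σ M) :
    IsSyl 11 (σ A) M := by
  refine isSyl_of_not_dvd_relIndex (IsPGroup.of_card (n := 1) (by rw [h.card, pow_one])) hA
    fun ⟨k, hk⟩ => hM ⟨k, ?_⟩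
  rw [← Grp.card_mul_relIndex hA, h.card, hk]
  ring

theorem exists_smul {M : Subgroup G} (hM : ¬ 121 ∣ Nat.card M) {A B : Ω} (hA : A ∈ pts σ M)
    (hB : B ∈ pts σ M) : ∃ m ∈ M, m • A = B := by
  obtain ⟨g, hg, e⟩ := (h.isSyl hM hB).exists_cj_eq (h.isSyl hM hA)
  exact ⟨g, hg, h.inj ((h.eqv g A).trans e)⟩

theorem card_pts {M : Subgroup G} (hM : ¬ 121 ∣ Nat.card M) {A : Ω} (hA : A ∈ pts σ M) :
    Nat.card M = (pts σ M).ncard * Nat.card ↥(M ⊓ stabilizer G A) :=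
  card_of_orbit M A _ fun _ => ⟨h.exists_smul hM hA, fun ⟨_, hg, e⟩ => e ▸ h.smul_pts' hg hA⟩

theorem pts_mod {M : Subgroup G} {A : Ω} (hA : A ∈ pts σ M) : (pts σ M).ncard % 11 = 1 := by
  have := h.finite
  obtain ⟨a, ha, a1⟩ := exists_gen11 (h.card A)
  have h1 := Kos.card_fix_modEq (p := 11) (k := 1) (by norm_num) (x := a)
    (by rw [pow_one, pow11 (h.card A) ha]) (· ∈ pts σ M) fun c hc => h.smul_pts' (hA ha) hc
  have h2 : Nat.card {c // c ∈ pts σ M ∧ a • c = c} = 1 :=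
    Nat.card_eq_one_iff_exists.2 ⟨⟨A, hA, h.fix_of_mem ha⟩, fun c =>
      Subtype.ext (h.eq_of_fix ha a1 c.2.2).symm⟩
  rw [h2] at h1
  exact h1

/-- an element of order 11 of a subgroup of order prime to 121 lies in a point -/
theorem exists_pt {M : Subgroup G} (hM : ¬ 121 ∣ Nat.card M) {A : Ω} (hA : A ∈ pts σ M) {x : G}
    (hx : x ∈ M) (h11 : x ^ 11 = 1) : ∃ B ∈ pts σ M, x ∈ σ B := by
  obtain ⟨g, hg, e⟩ := (h.isSyl hM hA).exists_le_cj (isPGroup_zpowers ⟨1, by rwa [pow_one]⟩)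
    (zpowers_le.2 hx)
  exact ⟨g • A, h.smul_pts' hg hA, by rw [h.eqv]; exact e (mem_zpowers x)⟩

end S0

end Cfsg.Agent.E11
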