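import Mathlib
import Cfsg.Agent.E11.Base
import Cfsg.Agent.Transfer.Focal

/-! The lines: simple subgroups of order 660. -/

set_option autoImplicit false
set_option linter.unusedSectionVars false

namespace Cfsg.Agent.E11

open Subgroup MulAction Cfsg.Agent.PLocal.Amb Cfsg.Agent.TwoTr

variable {G Ω : Type*} [Group G] [MulAction G Ω]

theorem exists_pow5 {h x : G} (h5 : orderOf h = 5) (hx : x ∈ zpowers h) : ∃ i < 5, x = h ^ i := by
  classical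
  rw [(orderOf_pos_iff.1 (by omega)).mem_zpowers_iff_mem_range_orderOf, h5] at hx
  obtain ⟨n, hn, rfl⟩ := Finset.mem_image.1 hx
  exact ⟨n, Finset.mem_range.1 hn, rfl⟩

theorem fix_pow {g : G} {A : Ω} (hg : g • A = A) (n : ℕ) : g ^ n • A = A :=
  pow_mem (mem_stabilizer_iff.2 hg) n

theorem fix_inv {g : G} {A : Ω} (hg : g • A = A) : g⁻¹ • A = A :=
  inv_mem (mem_stabilizer_iff.2 hg)

theorem fix_mul {g x : G} {A : Ω} (hg : g • A = A) (hx : x • A = A) : (g * x) • A = A :=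
  mul_mem (mem_stabilizer_iff.2 hg) hx

theorem eq_one_of_odd [Finite G] {M : Subgroup G} (hM : Odd (Nat.card M)) {x : G} (hx : x ∈ M)
    {k : ℕ} (h2 : x ^ 2 ^ k = 1) : x = 1 :=
  orderOf_eq_one_iff.1 (Nat.Coprime.eq_one_of_dvd
    ((Nat.coprime_two_right.2 (hM.of_dvd_nat (M.orderOf_dvd_natCard hx))).pow_right k)
    (orderOf_dvd_of_pow_eq_one h2))

/-- Burnside's transfer theorem in a subgroup -/
theorem burn [Finite G] {p : ℕ} [Fact p.Prime] {T M : Subgroup G} (hT : IsSyl p T M)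
    (h : ∀ g ∈ M, g ∈ 𝐍[T] → g ∈ 𝐂[T]) :
    ∃ N : Subgroup G, N ≤ M ∧ M ≤ 𝐍[N] ∧ ¬ p ∣ Nat.card N ∧ N ⊔ T = M := by
  obtain ⟨P, hP⟩ := hT.exists_sylow_map
  have h1 : 𝐍[(P : Subgroup M)] ≤ 𝐂[(P : Subgroup M)] := by
    rw [normalizer_eq_subgroupOf, centralizer_eq_subgroupOf, hP]
    exact fun g hg => h g g.2 hg
  have h2 := MonoidHom.ker_transferSylow_isComplement' P h1
  refine ⟨(MonoidHom.transferSylow P h1).ker.map M.subtype, map_subtype_le _,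
    le_normalizer_map_subtype _, ?_, ?_⟩
  · rw [card_map_of_injective M.subtype_injective]
    exact MonoidHom.not_dvd_card_ker_transferSylow P h1
  · rw [← hP, ← Subgroup.map_sup, h2.sup_eq_top, ← MonoidHom.range_eq_map, range_subtype]

/-- data for a pair of points on a line -/
structure LP (σ : Ω → Subgroup G) (L : Subgroup G) (A B : Ω) (h t : G) : Prop where
  isL : IsL L
  mA : A ∈ pts σ L
  mB : B ∈ pts σ L
  ne : A ≠ B
  hm : h ∈ L
  tm : t ∈ L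
  hA : h • A = A
  hB : h • B = B
  h5 : orderOf h = 5
  kh : kp (σ A) h ≠ 1
  tA : t • A = B
  tB : t • B = A
  t2 : t * t = 1
  inv : t * h * t⁻¹ = h⁻¹
  stab : ∀ x ∈ L, x • A = A → x • B = B → x ∈ zpowers h

namespace S0

variable {σ : Ω → Subgroup G} (h : S0 σ) [Finite G]
include h

theorem k_five {g : G} {A : Ω} (hg : g • A = A) (h5 : g ^ 5 = 1) : kp (σ A) g ^ 5 = 1 := by
  rw [← h.k_pow hg, h5, h.k_one]

theorem k_ten {g : G} {A : Ω} (hg : g • A = A) : kp (σ A) g ^ 10 = 1 :=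
  ZMod.pow_card_sub_one_eq_one (h.k_ne hg)

section
variable {L : Subgroup G} (hL : IsL L) {A B : Ω} (hA : A ∈ pts σ L) (hB : B ∈ pts σ L)
  (hne : A ≠ B)
include hL

theorem L121 : ¬ 121 ∣ Nat.card L := by rw [hL.2]; norm_num

include hA hB hne

theorem sup_eq_L : σ A ⊔ σ B = L := by
  have h1 : σ A ⊔ σ B ≤ L := sup_le hA hB
  have h2 := card_dvd_of_le h1
  rcases (h.pair A B hne).card with e | e
  · exact eq_of_le_of_card_ge h1 (by rw [e, hL.2])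
  · rw [e, hL.2] at h2
    norm_num at h2

theorem twelve_le : (insert A ((fun a => a • B) '' (σ A : Set G))).ncard = 12 := by
  have := h.finite
  rw [Set.ncard_insert_of_notMem (by rintro ⟨a, ha, e⟩; exact h.smul_ne hne ha e),
    Set.InjOn.ncard_image fun a ha b hb e => h.smul_inj hne ha hb e]
  exact congrArg (· + 1) (h.card A)

theorem sub_line : insert A ((fun a => a • B) '' (σ A : Set G)) ⊆ pts σ L := by
  rintro c (rfl | ⟨a, ha, rfl⟩)
  · exact hA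
  · exact h.smul_pts' (hA ha) hB

theorem card_line : (pts σ L).ncard = 12 ∧ Nat.card ↥(L ⊓ stabilizer G A) = 55 := by
  have := h.finite
  have h1 := h.card_pts (h.L121 hL) hA
  have h2 := h.pts_mod hA
  have h3 := Set.ncard_le_ncard (h.sub_line hL hA hB hne)
  rw [h.twelve_le hL hA hB hne] at h3
  obtain ⟨c, hc⟩ := card_dvd_of_le
    (show σ A ≤ L ⊓ stabilizer G A from fun a ha => ⟨hA ha, h.fix_of_mem ha⟩)
  rw [h.card] at hc
  rw [hL.2, hc] at h1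
  have h4 : (pts σ L).ncard * c = 60 := by linarith
  have h5 := Nat.le_of_dvd (by norm_num) (Dvd.intro _ h4)
  have h6 : (pts σ L).ncard = 12 :=
    (by decide : ∀ n ≤ 60, n ∣ 60 → n % 11 = 1 → 12 ≤ n → n = 12) _ h5 (Dvd.intro _ h4) h2 h3
  rw [h6] at h4
  exact ⟨h6, by omega⟩

theorem mem_line {C : Ω} (hC : C ∈ pts σ L) : C = A ∨ ∃ a ∈ σ A, a • B = C := by
  have := h.finite
  rwa [← Set.eq_of_subset_of_ncard_le (h.sub_line hL hA hB hne)
    (by rw [h.twelve_le hL hA hB hne, (h.card_line hL hA hB hne).1])] at hC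

theorem fix_line {g : G} (gA : g ∈ 𝐂[σ A]) (gB : g • B = B) {C : Ω} (hC : C ∈ pts σ L) :
    g • C = C := by
  rcases h.mem_line hL hA hB hne hC with rfl | ⟨a, ha, rfl⟩
  · exact h.fix_of_cent gA
  · rw [← mul_smul, ← mem_centralizer_iff.1 gA a ha, mul_smul, gB]

theorem three {g : G} {C : Ω} (hC : C ∈ pts σ L) (h1 : C ≠ A) (h2 : C ≠ B) (gA : g • A = A)
    (gB : g • B = B) (gC : g • C = C) : g ∈ 𝐂[σ A] := by
  obtain ⟨a, ha, rfl⟩ := (h.mem_line hL hA hB hne hC).resolve_left h1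
  rw [h.smul_coord gA ha, gB] at gC
  refine (h.k_one_iff gA).1 (val_inj (h.card A) ha (fun e => h2 (by rw [e, one_smul])) ?_)
  rw [h.smul_inj hne (pow_mem ha _) ha gC, ZMod.val_one, pow_one]

theorem cent_of_cent {g : G} (gA : g ∈ 𝐂[σ A]) (gB : g • B = B) : g ∈ 𝐂[σ B] := by
  obtain ⟨a, ha, a1⟩ := exists_gen11 (h.card A)
  have hC := h.smul_pts' (hA ha) hB
  exact h.three hL hB hA hne.symm hC (fun e => hne (h.eq_of_fix ha a1 e)) (h.smul_ne hne ha) gB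
    (h.fix_of_cent gA) (h.fix_line hL hA hB hne gA gB hC)

theorem cent_L {g : G} (gA : g ∈ 𝐂[σ A]) (gB : g • B = B) : g ∈ 𝐂[L] := by
  rw [← h.sup_eq_L hL hA hB hne, centralizer_sup]
  exact ⟨gA, h.cent_of_cent hL hA hB hne gA gB⟩

theorem two_elt {s : G} (hs : s ∈ L) {k : ℕ} (s2 : s ^ 2 ^ k = 1) (sA : s • A = A) : s = 1 :=
  eq_one_of_odd (M := L ⊓ stabilizer G A) (by rw [(h.card_line hL hA hB hne).2]; decide) ⟨hs, sA⟩ s2

theorem two_tr {C D : Ω} (hC : C ∈ pts σ L) (hD : D ∈ pts σ L) (hCD : C ≠ D) :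
    ∃ y ∈ L, y • A = C ∧ y • B = D := by
  obtain ⟨m, hm, rfl⟩ := h.exists_smul (h.L121 hL) hA hC
  have h1 : m • A ≠ m • B := fun e => hne (smul_left_cancel m e)
  obtain ⟨a, ha, rfl⟩ := (h.mem_line hL hC (h.smul_pts' hm hB) h1 hD).resolve_left hCD.symm
  exact ⟨a * m, mul_mem (hC ha) hm, by rw [mul_smul, h.fix_of_mem ha], mul_smul _ _ _⟩

omit hA hB hne in
theorem inf_cent_L : L ⊓ 𝐂[L] = ⊥ := by
  rcases LJ.eq_of_normal (Or.inl hL) (inf_le_left : L ⊓ 𝐂[L] ≤ L)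
    (le_normalizer_inf le_normalizer (le_normalizer_centralizer le_normalizer)) with e | e
  · exact e
  have := hL.1
  let i : CommGroup L := { (inferInstance : Group L) with
    mul_comm := fun x y => Subtype.ext (mem_centralizer_iff.1 (e.ge y.2).2 x x.2) }
  have h1 : (Nat.card L).Prime := IsSimpleGroup.prime_card
  rw [hL.2] at h1
  norm_num at h1

theorem exists_LP : ∃ x t, LP σ L A B x t := by
  have := h.finite
  have c5 := (A45.card_two L (pts σ L) (fun g hg x hx => h.smul_pts' hg hx) hne hA hB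
    fun c hc d hd hcd => h.two_tr hL hA hB hne hc hd hcd).2
  rw [(h.card_line hL hA hB hne).1, (h.card_line hL hA hB hne).2] at c5
  set H := L ⊓ stabilizer G A ⊓ stabilizer G B with hH
  have c5 : Nat.card H = 5 := by omega
  obtain ⟨⟨x, hx⟩, x5⟩ := exists_prime_orderOf_dvd_card' (G := H) 5 (by rw [c5])
  rw [← orderOf_coe] at x5
  change orderOf x = 5 at x5
  have zx : zpowers x = H := eq_of_le_of_card_ge (zpowers_le.2 hx) (by rw [Nat.card_zpowers, x5, c5])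
  have st : ∀ y ∈ L, y • A = A → y • B = B → y ∈ zpowers x := fun y h1 h2 h3 => zx ▸ ⟨⟨h1, h2⟩, h3⟩
  have p5 : ∀ y ∈ zpowers x, y ^ 5 = 1 := fun y hy => by
    rw [← x5]
    exact orderOf_dvd_iff_pow_eq_one.1 (orderOf_dvd_of_mem_zpowers hy)
  have x1 : x ≠ 1 := fun e => by simp [e] at x5
  have kx : x ∉ 𝐂[σ A] := fun e => x1 ((eq_bot_iff_forall _).1 (h.inf_cent_L hL) x
    ⟨hx.1.1, h.cent_L hL hA hB hne e hx.2⟩)
  obtain ⟨y, hy, y1, y2⟩ := h.two_tr hL hA hB hne hB hA hne.symm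
  have sw : Uq.Sw A B (y ^ 5) := by
    have : Uq.Sw A B y := ⟨y1, y2⟩
    rw [show y ^ 5 = (y * y) ^ 2 * y by rw [← pow_two, ← pow_mul, ← pow_succ]]
    exact this.mem_mul (pow_mem (this.mul this) 2)
  have t2 : y ^ 5 * y ^ 5 = 1 := by
    rw [← (Commute.refl y).mul_pow]
    exact p5 _ (st _ (mul_mem hy hy) (by rw [mul_smul, y1, y2]) (by rw [mul_smul, y2, y1]))
  have tm := pow_mem hy 5
  generalize y ^ 5 = t at sw t2 tm
  have fx : ∀ C ∈ pts σ L, x • C = C → C = A ∨ C = B := fun C hC e => by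
    by_contra hn
    push Not at hn
    exact kx (h.three hL hA hB hne hC hn.1 hn.2 hx.1.2 hx.2 e)
  have ti : t⁻¹ = t := inv_eq_of_mul_eq_one_right t2
  obtain ⟨e, he, he'⟩ := exists_pow5 x5 (st (t * x * t⁻¹) (mul_mem (mul_mem tm hx.1.1) (inv_mem tm))
    (sw.conj_mem ⟨hx.1.2, hx.2⟩).1 (sw.conj_mem ⟨hx.1.2, hx.2⟩).2)
  have he2 : x ^ (e * e) = x ^ 1 := by
    rw [pow_mul, ← he', conj_pow, ← he', ti, pow_one]
    calc t * (t * x * t) * t = (t * t) * x * (t * t) := by group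
      _ = x := by rw [t2, one_mul, mul_one]
  rw [pow_eq_pow_iff_modEq, x5] at he2
  refine ⟨x, t, hL, hA, hB, hne, hx.1.1, tm, hx.1.2, hx.2, x5,
    fun e => kx ((h.k_one_iff hx.1.2).1 e), sw.1, sw.2, t2, ?_, st⟩
  rcases (by decide : ∀ e < 5, e * e ≡ 1 [MOD 5] → e = 1 ∨ e = 4) e he he2 with rfl | rfl
  swap
  · rw [he', eq_inv_iff_mul_eq_one, ← pow_succ]
    exact p5 x (mem_zpowers x)
  exfalso
  have sy : IsSyl 5 (zpowers x) L := isSyl_of_not_dvd_relIndex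
    (isPGroup_zpowers ⟨1, by rw [pow_one, ← x5, pow_orderOf_eq_one]⟩) (zpowers_le.2 hx.1.1)
    fun ⟨k, hk⟩ => by
      have := Grp.card_mul_relIndex (zpowers_le.2 hx.1.1)
      rw [Nat.card_zpowers, x5, hk, hL.2] at this
      omega
  have cx : ∀ g ∈ zpowers x, g * x = x * g := fun g ⟨n, e⟩ => e ▸ (Commute.zpow_self x n).eq
  obtain ⟨N, h1, h2, h3, h4⟩ := burn sy fun g hg hn => by
    rw [centralizer_zpowers, mem_centralizer_singleton_iff]
    have f : ∀ C : Ω, (∀ z ∈ zpowers x, z • C = C) → x • g • C = g • C := fun C hC => by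
      have := hC _ (inv_conj_mem_of_mem_normalizer hn (mem_zpowers x))
      rwa [mul_smul, mul_smul, inv_smul_eq_iff] at this
    have f1 := fx _ (h.smul_pts' hg hA) (f A fun z hz => (zx ▸ hz : z ∈ H).1.2)
    have f2 := fx _ (h.smul_pts' hg hB) (f B fun z hz => (zx ▸ hz : z ∈ H).2)
    have f3 : g • A ≠ g • B := fun e => hne (smul_left_cancel g e)
    rcases f1 with f1 | f1
    · exact cx g (st g hg f1 (f2.resolve_left fun e => f3 (f1.trans e.symm)))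
    · have f4 := f2.resolve_right fun e => f3 (f1.trans e.symm)
      have f5 := cx _ (st (t * g) (mul_mem tm hg) (by rw [mul_smul, f1, sw.2])
        (by rw [mul_smul, f4, sw.1]))
      rw [pow_one, mul_inv_eq_iff_eq_mul] at he'
      rw [← mul_assoc, ← he', mul_assoc, mul_assoc, mul_right_inj] at f5
      exact f5
  rcases LJ.eq_of_normal (Or.inl hL) h1 h2 with e | e
  · have := congrArg (fun M : Subgroup G => Nat.card M) h4
    simp only [e, bot_sup_eq, Nat.card_zpowers, x5, hL.2] at this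
    omega
  · rw [e, hL.2] at h3
    norm_num at h3

end

end S0

namespace LP

variable {σ : Ω → Subgroup G} (S : S0 σ) [Finite G] {L : Subgroup G} {A B : Ω} {h t : G}
  (P : LP σ L A B h t)
include P

theorem pow5 : h ^ 5 = 1 := by rw [← P.h5, pow_orderOf_eq_one]

theorem ti : t⁻¹ = t := inv_eq_of_mul_eq_one_right P.t2

theorem t1 : t ≠ 1 := fun e => P.ne (by rw [← P.tA, e, one_smul])

theorem sw : Uq.Sw A B t := ⟨P.tA, P.tB⟩

theorem inv_pow (i : ℕ) : t * h ^ i * t⁻¹ = (h ^ i)⁻¹ := by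
  rw [← conj_pow, P.inv, _root_.inv_pow]

theorem conj_t (i : ℕ) : h ^ (2 * i) * t * (h ^ (2 * i))⁻¹ = t * h ^ i := by
  have h1 : t * h ^ (2 * i) * t⁻¹ = (h ^ (2 * i))⁻¹ := P.inv_pow _
  have h2 : (h ^ (2 * i))⁻¹ * (h ^ (2 * i))⁻¹ = h ^ i := by
    rw [← mul_inv_rev, inv_eq_iff_mul_eq_one, ← pow_add, ← pow_add,
      show 2 * i + 2 * i + i = 5 * i by ring, pow_mul, P.pow5, one_pow]
  rw [← h2, ← mul_assoc]
  congr 1
  rw [← h1, P.ti, ← mul_assoc, ← mul_assoc, P.t2, one_mul]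

include S

theorem k5 : kp (σ A) h ^ 5 = 1 := S.k_five P.hA P.pow5

theorem kB : kp (σ A) h * kp (σ B) h = 1 := by
  have h1 := S.k_conj P.hB t
  rw [P.tB, P.inv] at h1
  rw [← h1, mul_comm, S.k_inv P.hA]

theorem sup_eq : σ A ⊔ σ B = L := S.sup_eq_L P.isL P.mA P.mB P.ne

theorem cent {g : G} (gA : g ∈ 𝐂[σ A]) (gB : g • B = B) : g ∈ 𝐂[L] :=
  S.cent_L P.isL P.mA P.mB P.ne gA gB

theorem kk {g : G} (gA : g • A = A) (gB : g • B = B) : kp (σ A) g * kp (σ B) g = 1 := by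
  have f : ∀ x : G, x • A = A → x • B = B → (kp (σ A) x = 1 ↔ kp (σ B) x = 1) := fun x h1 h2 => by
    rw [S.k_one_iff h1, S.k_one_iff h2]
    exact ⟨fun e => S.cent_of_cent P.isL P.mA P.mB P.ne e h2,
      fun e => S.cent_of_cent P.isL P.mB P.mA P.ne.symm e h1⟩
  obtain ⟨i, hi⟩ := (by decide : ∀ m k : ZMod 11, m ≠ 1 → m ^ 5 = 1 → k ≠ 0 →
    ∃ i : Fin 5, (k * m ^ i.1) ^ 2 = 1) _ _ P.kh (P.k5 S) (S.k_ne gA)
  have a1 := fix_mul gA (fix_pow P.hA i)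
  have b1 := fix_mul gB (fix_pow P.hB i)
  have h1 := f _ a1 b1
  have h2 := f _ (fix_pow a1 2) (fix_pow b1 2)
  rw [S.k_pow a1, S.k_pow b1] at h2
  rw [S.k_mul gA (fix_pow P.hA i), S.k_mul gB (fix_pow P.hB i), S.k_pow P.hA, S.k_pow P.hB] at h1 h2
  have h3 := (by decide : ∀ a b : ZMod 11, a ^ 2 = 1 → b ^ 2 = 1 → (a = 1 ↔ b = 1) → a * b = 1)
    _ _ hi (h2.1 hi) h1
  rwa [mul_mul_mul_comm, ← mul_pow, P.kB S, one_pow, mul_one] at h3

theorem decomp {g : G} (gA : g • A = A) (gB : g • B = B) (h5 : kp (σ A) g ^ 5 = 1) :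
    ∃ i : ℕ, ∃ y ∈ 𝐂[L], g = h ^ i * y := by
  obtain ⟨i, hi⟩ := (by decide : ∀ m k : ZMod 11, m ≠ 1 → m ^ 5 = 1 → k ^ 5 = 1 →
    ∃ i : Fin 5, m ^ i.1 = k) _ _ P.kh (P.k5 S) h5
  have a1 := fix_pow P.hA i
  refine ⟨i, (h ^ i.1)⁻¹ * g, P.cent S ((S.k_one_iff (fix_mul (fix_inv a1) gA)).1 ?_)
    (fix_mul (fix_inv (fix_pow P.hB i)) gB), by group⟩
  rw [S.k_mul (fix_inv a1) gA, ← hi, ← S.k_pow P.hA, S.k_inv a1]

theorem eq_of_k {i j : ℕ} (e : kp (σ A) h ^ i = kp (σ A) h ^ j) : h ^ i = h ^ j := by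
  have : orderOf (kp (σ A) h) = 5 := orderOf_eq_prime (P.k5 S) P.kh
  rw [pow_eq_pow_iff_modEq, P.h5, ← this]
  obtain ⟨u, hu⟩ := (Ne.isUnit (S.k_ne P.hA))
  rw [← hu, orderOf_units, ← pow_eq_pow_iff_modEq]
  exact Units.ext (by simpa [hu] using e)

theorem swap_inv {x : G} (xA : x • A = B) (xB : x • B = A) : x * h * x⁻¹ = h⁻¹ := by
  have sx : Uq.Sw A B x := ⟨xA, xB⟩
  have hn : x ∈ 𝐍[L] := P.sup_eq S ▸ S.norm_swap xA xB
  obtain ⟨i, -, hi⟩ := exists_pow5 P.h5 (P.stab _ (conj_mem_of_mem_normalizer hn P.hm)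
    (sx.conj_mem ⟨P.hA, P.hB⟩).1 (sx.conj_mem ⟨P.hA, P.hB⟩).2)
  have h1 := S.k_conj P.hB x
  rw [xB, hi, S.k_pow P.hA] at h1
  rw [hi, eq_inv_iff_mul_eq_one, ← pow_succ]
  exact (P.eq_of_k S (j := 0) (by rw [pow_succ', h1, P.kB S, pow_zero])).trans (pow_zero h)

theorem t_fpf {C : Ω} (hC : C ∈ pts σ L) : t • C ≠ C := fun e => by
  obtain ⟨D, hD, hne⟩ : ∃ D ∈ pts σ L, C ≠ D := by
    by_cases e : C = A
    · exact ⟨B, P.mB, e ▸ P.ne⟩
    · exact ⟨A, P.mA, e⟩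
  exact P.t1 (S.two_elt P.isL hC hD hne P.tm (k := 1) (by rw [pow_one, pow_two, P.t2]) e)

theorem swap_decomp {x : G} (xA : x • A = B) (xB : x • B = A) (hx : ∀ C ∈ pts σ L, x • C ≠ C) :
    ∃ i : ℕ, ∃ y ∈ 𝐂[L], x = h ^ i * t * y := by
  obtain ⟨a, ha, a1⟩ := exists_gen11 (S.card A)
  have hC := S.smul_pts' (P.mA ha) P.mB
  have cA := S.smul_ne P.ne ha
  have cB : a • B ≠ B := fun e => P.ne (S.eq_of_fix ha a1 e)
  have hp : ∀ (i : ℕ) (c : ZMod 11), h ^ i • a ^ c.val • B = a ^ (c * kp (σ A) h ^ i).val • B :=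
    fun i c => by
      rw [S.smul_coord (fix_pow P.hA i) (pow_mem ha _), fix_pow P.hB, S.k_pow P.hA,
        pow_val_mul (pow11 (S.card A) ha)]
  have f : ∀ x : G, x • A = B → x • B = A → (∀ C ∈ pts σ L, x • C ≠ C) →
      ∃ c : ZMod 11, c ≠ 0 ∧ c ^ 5 ≠ 1 ∧ x • a • B = a ^ c.val • B := fun x xA xB hx => by
    have hn : x ∈ 𝐍[L] := P.sup_eq S ▸ S.norm_swap xA xB
    obtain ⟨b, hb, e⟩ := (S.mem_line P.isL P.mA P.mB P.ne (S.smul_pts hn hC)).resolve_left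
      fun e => cB (smul_left_cancel x (e.trans xB.symm))
    obtain ⟨c, rfl⟩ := exists_val (S.card A) ha a1 hb
    refine ⟨c, fun c0 => cA (smul_left_cancel x ?_), fun c5 => ?_, e.symm⟩
    · rw [← e, c0, xA, ZMod.val_zero, pow_zero, one_smul]
    obtain ⟨j, hj⟩ := (by decide : ∀ m k : ZMod 11, m ≠ 1 → m ^ 5 = 1 → k ^ 5 = 1 →
      ∃ i : Fin 5, 1 * m ^ i.1 = k) _ _ P.kh (P.k5 S) c5
    rw [← hj, ← hp, ZMod.val_one, pow_one] at e
    refine hx (h ^ (3 * j.1) • a • B) (S.smul_pts' (pow_mem P.hm _) hC) ?_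
    have h1 : x * h ^ (3 * j.1) = (h ^ (3 * j.1))⁻¹ * x := by
      rw [← _root_.inv_pow, ← P.swap_inv S xA xB, conj_pow, inv_mul_cancel_right]
    rw [← mul_smul, h1, mul_smul, ← e, inv_smul_eq_iff, ← mul_smul (h ^ _) (h ^ _), ← pow_add,
      show 3 * j.1 + 3 * j.1 = 5 * j.1 + j.1 by ring, pow_add, pow_mul, P.pow5, one_pow, one_mul]
  obtain ⟨c, c0, c5, e⟩ := f x xA xB hx
  obtain ⟨d, d0, d5, e'⟩ := f t P.tA P.tB fun C => P.t_fpf S
  obtain ⟨i, hi⟩ := (by decide : ∀ m c d : ZMod 11, m ≠ 1 → m ^ 5 = 1 → c ≠ 0 → c ^ 5 ≠ 1 → d ≠ 0 →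
    d ^ 5 ≠ 1 → ∃ i : Fin 5, d * m ^ i.1 = c) _ _ _ P.kh (P.k5 S) c0 c5 d0 d5
  have g2 : ((h ^ i.1 * t)⁻¹ * x) • B = B := by
    rw [mul_smul, inv_smul_eq_iff, xB, mul_smul, P.tB, fix_pow P.hA]
  refine ⟨i, (h ^ i.1 * t)⁻¹ * x, P.cent S (S.three P.isL P.mA P.mB P.ne hC cA cB ?_ g2 ?_) g2,
    by group⟩
  · rw [mul_smul, inv_smul_eq_iff, xA, mul_smul, P.tA, fix_pow P.hB]
  · rw [mul_smul, inv_smul_eq_iff, e, mul_smul, e', hp, hi]

theorem conj_inv {s : G} (hs : s ∈ L) (s2 : s * s = 1) (s1 : s ≠ 1) : ∃ l ∈ L, l * t * l⁻¹ = s := by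
  obtain ⟨a, ha, e⟩ := (S.mem_line P.isL P.mA P.mB P.ne (S.smul_pts' hs P.mA)).resolve_left
    fun e => s1 (S.two_elt P.isL P.mA P.mB P.ne hs (k := 1) (by rw [pow_one, pow_two, s2]) e)
  have aA := S.fix_of_mem ha
  have am := P.mA ha
  obtain ⟨i, -, hi⟩ := exists_pow5 P.h5 (P.stab (t * (a⁻¹ * s * a))
    (mul_mem P.tm (mul_mem (mul_mem (inv_mem am) hs) am))
    (by rw [mul_smul, mul_smul, mul_smul, aA, ← e, inv_smul_smul, P.tB])
    (by rw [mul_smul, mul_smul, mul_smul, e, ← mul_smul s, s2, one_smul, fix_inv aA, P.tA]))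
  refine ⟨a * h ^ (2 * i), mul_mem am (pow_mem P.hm _), ?_⟩
  rw [show a * h ^ (2 * i) * t * (a * h ^ (2 * i))⁻¹ =
    a * (h ^ (2 * i) * t * (h ^ (2 * i))⁻¹) * a⁻¹ by group, P.conj_t, ← hi, ← mul_assoc t, P.t2]
  group

end LP

end Cfsg.Agent.E11
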