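import Mathlib
import Cfsg.Agent.E11.LF

/-! Reduction to a simple minimal counterexample. -/

set_option autoImplicit false
set_option linter.unusedSectionVars false
set_option linter.style.haveILetI false
set_option linter.unusedVariables false

namespace Cfsg.Agent.E11

open Subgroup MulAction Cfsg.Agent.PLocal.Amb Cfsg.Agent.TwoTr

universe u

theorem LJ.of_equiv {G H : Type*} [Group G] [Group H] {M : Subgroup G} {N : Subgroup H} (h : LJ M)
    (e : M ≃* N) : LJ N := by
  rcases h with h | ⟨⟨f⟩⟩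
  · have := h.1
    exact Or.inl ⟨e.symm.isSimpleGroup, (Nat.card_congr e.toEquiv).symm.trans h.2⟩
  · exact Or.inr ⟨e.symm.trans f⟩

theorem LJ.not_comm {G : Type*} [Group G] {M : Subgroup G} (h : LJ M)
    (hc : ∀ x ∈ M, ∀ y ∈ M, x * y = y * x) : False := by
  have := h.simple
  let i : CommGroup M := { (inferInstance : Group M) with
    mul_comm := fun x y => Subtype.ext (hc x x.2 y y.2) }
  have h1 : (Nat.card M).Prime := IsSimpleGroup.prime_card
  rcases h.card with e | e <;> rw [e] at h1 <;> norm_num at h1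

theorem LJ.inf_cent {G : Type*} [Group G] {M : Subgroup G} (h : LJ M) : M ⊓ 𝐂[M] = ⊥ :=
  (h.eq_of_normal (inf_le_left : M ⊓ 𝐂[M] ≤ M) (le_normalizer_inf le_normalizer
    (le_normalizer_centralizer le_normalizer))).resolve_right fun e =>
      h.not_comm fun x hx y hy => mem_centralizer_iff.1 (e.ge hy).2 x hx

/-- the hypothesis in a minimal counterexample -/
structure St {G Ω : Type*} [Group G] [MulAction G Ω] (σ : Ω → Subgroup G) : Prop extends S0 σ where
  simple : IsSimpleGroup G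
  nt : Nontrivial Ω
  cent : ∀ y : G, y ≠ 1 → ∀ A B, A ≠ B → y ∈ 𝐂[σ A] → y ∈ 𝐂[σ B] →
    ∃ A' B', A' ≠ B' ∧ ∀ C, y ∈ 𝐂[σ C] ↔ C ∈ pts σ (σ A' ⊔ σ B')

/-- a class of subgroups -/
structure Cl {G : Type*} [Group G] (D : Set (Subgroup G)) : Prop where
  cj : ∀ g : G, ∀ A ∈ D, cj(g, A) ∈ D
  card : ∀ A ∈ D, Nat.card A = 11
  pair : ∀ A ∈ D, ∀ B ∈ D, A ≠ B → LJ (A ⊔ B)

/-- the action on the class -/
@[reducible] def Cl.act {G : Type*} [Group G] {D : Set (Subgroup G)} (h : Cl D) : MulAction G D where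
  smul g A := ⟨cj(g, A.1), h.cj g _ A.2⟩
  one_smul A := Subtype.ext (cj_one A.1)
  mul_smul g k A := Subtype.ext (cj_mul g k A.1)

theorem Cl.s0 {G : Type*} [Group G] {D : Set (Subgroup G)} (h : Cl D) :
    @S0 G _ D h.act Subtype.val :=
  letI := h.act
  ⟨Subtype.val_injective, fun _ _ => rfl, fun A => h.card _ A.2,
    fun A B hne => h.pair _ A.2 _ B.2 fun e => hne (Subtype.ext e)⟩

theorem Cl.central {G : Type*} [Group G] [Finite G] {D : Set (Subgroup G)} (h : Cl D)
    (hD : sSup D = ⊤) (N : Subgroup G) [hN : N.Normal] (h1 : N ≠ ⊤) : N ≤ center G := by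
  letI := h.act
  have S := h.s0
  have nA : ∀ A ∈ D, ¬ A ≤ N := fun A hA hle => h1 (top_le_iff.1 (hD ▸ sSup_le fun B hB => by
    by_cases e : A = B
    · exact e ▸ hle
    obtain ⟨g, -, hg⟩ := S.exists_smul (M := A ⊔ B) (A := ⟨A, hA⟩) (B := ⟨B, hB⟩)
      (by rcases (h.pair A hA B hB e).card with e | e <;> rw [e] <;> norm_num)
      (le_sup_left : A ≤ A ⊔ B) (le_sup_right : B ≤ A ⊔ B)
    rw [← show cj(g, A) = B from congrArg Subtype.val hg, ← cj_of_normal g N]
    exact cj_mono g hle))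
  intro n hn
  suffices hs : (⊤ : Subgroup G) ≤ centralizer {n} from
    mem_center_iff.2 fun g => mem_centralizer_singleton_iff.1 (hs (mem_top g))
  rw [← hD]
  refine sSup_le fun A hA a ha => ?_
  have iA : ∀ x ∈ A, x ∈ N → x = 1 := fun x h2 h3 => by_contra fun h4 =>
    nA A hA (by rw [← zpowers_eq11 (h.card A hA) h2 h4]; exact zpowers_le.2 h3)
  have h2 : cj(n, A) = A := by
    by_contra hne
    have hS := h.pair _ (h.cj n A hA) A hA hne
    have le : cj(n, A) ⊔ A ≤ N ⊔ A := sup_le (cj_le_iff_forall.2 fun x hx => by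
      rw [show n * x * n⁻¹ = n * (x * n⁻¹ * x⁻¹) * x by group]
      exact mul_mem (mem_sup_left (mul_mem hn (hN.conj_mem _ (inv_mem hn) x))) (mem_sup_right hx))
      le_sup_right
    rcases hS.eq_of_normal (inf_le_left : (cj(n, A) ⊔ A) ⊓ N ≤ _)
      (le_normalizer_inf le_normalizer (by rw [normalizer_eq_top]; exact le_top)) with e | e
    · refine hS.not_comm fun x hx y hy => ?_
      obtain ⟨n1, h3, a1, h4, rfl⟩ := (mem_sup_of_le_normalizer_left
        (by rw [normalizer_eq_top]; exact le_top)).1 (le hx)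
      obtain ⟨n2, h5, a2, h6, rfl⟩ := (mem_sup_of_le_normalizer_left
        (by rw [normalizer_eq_top]; exact le_top)).1 (le hy)
      rw [← mul_inv_eq_one]
      refine (eq_bot_iff_forall _).1 e _
        (mem_inf.2 ⟨mul_mem (mul_mem hx hy) (inv_mem (mul_mem hy hx)), ?_⟩)
      rw [← QuotientGroup.ker_mk' N, MonoidHom.mem_ker]
      have q1 : QuotientGroup.mk' N n1 = 1 := (QuotientGroup.eq_one_iff _).2 h3
      have q2 : QuotientGroup.mk' N n2 = 1 := (QuotientGroup.eq_one_iff _).2 h5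
      simp only [map_mul, map_inv, q1, q2, one_mul]
      rw [← map_mul, comm11 (h.card A hA) h4 h6, map_mul, mul_inv_cancel]
    · exact nA A hA (le_sup_right.trans (e.ge.trans inf_le_right))
  rw [mem_centralizer_singleton_iff, eq_comm, ← mul_inv_eq_one, mul_inv_rev, ← mul_assoc]
  refine iA _ (mul_mem (h2 ▸ conj_mem_cj n ha) (inv_mem ha)) ?_
  rw [show n * a * n⁻¹ * a⁻¹ = n * (a * n⁻¹ * a⁻¹) by group]
  exact mul_mem hn (hN.conj_mem _ (inv_mem hn) a)

theorem reduce (H : ∀ (G : Type u) [Group G] [Finite G] (Ω : Type u) [MulAction G Ω]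
    (σ : Ω → Subgroup G), St σ → ∃ A B, A ≠ B ∧ σ A ⊔ σ B = ⊤) (n : ℕ) :
    ∀ (G : Type u) [Group G] [Finite G], Nat.card G = n → ∀ D : Set (Subgroup G), Cl D →
      D.Nontrivial → sSup D = ⊤ → ∃ A ∈ D, ∃ B ∈ D, A ≠ B ∧ A ⊔ B = ⊤ := by
  induction n using Nat.strong_induction_on with
  | _ n ih =>
  intro G _ _ hn D h nt hD
  subst hn
  have nc : ∀ A ∈ D, ∀ B ∈ D, A ≠ B → (A ⊔ B) ⊓ center G = ⊥ := fun A hA B hB hne =>
    le_bot_iff.1 ((inf_le_inf_left _ (center_le_centralizer _)).trans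
      (h.pair A hA B hB hne).inf_cent.le)
  by_cases hZ : center G = ⊥
  swap
  · set f := QuotientGroup.mk' (center G) with hf
    have sf : Function.Surjective f := QuotientGroup.mk'_surjective _
    have eqv : ∀ M : Subgroup G, M ⊓ center G = ⊥ → Nonempty (M ≃* M.map f) := fun M hM =>
      ⟨(MonoidHom.ofInjective (f := f.domRestrict M) ((injective_iff_map_eq_one _).2 fun x hx =>
        Subtype.ext ((eq_bot_iff_forall _).1 hM x ⟨x.2, (QuotientGroup.eq_one_iff _).1 hx⟩))).trans
          (MulEquiv.subgroupCongr (MonoidHom.domRestrict_range _ _))⟩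
    have oth : ∀ A ∈ D, ∃ B ∈ D, A ≠ B := fun A _ => by
      obtain ⟨B, hB, e⟩ := nt.exists_ne A
      exact ⟨B, hB, e.symm⟩
    obtain ⟨_, ⟨A, hA, rfl⟩, _, ⟨B, hB, rfl⟩, hne, e⟩ := ih _ (Grp.card_quotient_lt _ hZ) (G ⧸ center G)
      rfl ((·.map f) '' D) ⟨by
        rintro g _ ⟨A, hA, rfl⟩
        obtain ⟨g, rfl⟩ := sf g
        exact ⟨_, h.cj g A hA, map_cj f g A⟩, by
        rintro _ ⟨A, hA, rfl⟩
        obtain ⟨B, hB, hne⟩ := oth A hA
        obtain ⟨e⟩ := eqv A (le_bot_iff.1 ((inf_le_inf_right _ le_sup_left).trans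
          (nc A hA B hB hne).le))
        rw [← Nat.card_congr e.toEquiv, h.card A hA], by
        rintro _ ⟨A, hA, rfl⟩ _ ⟨B, hB, rfl⟩ hne
        have hne' : A ≠ B := fun e => hne (by rw [e])
        obtain ⟨e⟩ := eqv _ (nc A hA B hB hne')
        rw [← Subgroup.map_sup]
        exact (h.pair A hA B hB hne').of_equiv e⟩ (by
        obtain ⟨A, hA, B, hB, hne⟩ := nt
        refine ⟨_, ⟨A, hA, rfl⟩, _, ⟨B, hB, rfl⟩, fun e => ?_⟩
        have le : A ⊔ B ≤ A ⊔ center G := sup_le le_sup_left (by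
          have := congrArg (comap f) e
          rw [comap_map_eq, comap_map_eq, hf, QuotientGroup.ker_mk'] at this
          exact le_sup_left.trans this.ge)
        refine (h.pair A hA B hB hne).not_comm fun x hx y hy => ?_
        obtain ⟨a, ha, z, hz, rfl⟩ := (mem_sup_of_le_normalizer_right
          (by rw [normalizer_eq_top]; exact le_top)).1 (le hx)
        obtain ⟨b, hb, w, hw, rfl⟩ := (mem_sup_of_le_normalizer_right
          (by rw [normalizer_eq_top]; exact le_top)).1 (le hy)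
        rw [mul_assoc a, ← mem_center_iff.1 hz, mul_assoc b w (a * z), ← mem_center_iff.1 hw (a * z),
          ← mul_assoc, ← mul_assoc, ← mul_assoc, ← mul_assoc, comm11 (h.card A hA) ha hb,
          mul_assoc _ w, mem_center_iff.1 hz w, mul_assoc _ z]) (by
        rw [sSup_image, ← map_top_of_surjective f sf, ← hD, sSup_eq_iSup]
        simp only [Subgroup.map_iSup])
    have hne' : A ≠ B := fun e => hne (by rw [e])
    refine ⟨A, hA, B, hB, hne', by_contra fun h1 => ?_⟩
    have e2 : A ⊔ B ⊔ center G = ⊤ := by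
      rw [← Subgroup.map_sup] at e
      have := congrArg (comap f) e
      rwa [comap_map_eq, hf, QuotientGroup.ker_mk', comap_top] at this
    have : (A ⊔ B).Normal := normalizer_eq_top_iff.1 (top_le_iff.1 (e2 ▸ sup_le le_normalizer
      ((center_le_centralizer _).trans (centralizer_le_normalizer' _))))
    exact (h.pair A hA B hB hne').not_comm fun x _ y hy =>
      mem_center_iff.1 (h.central hD _ h1 hy) x
  letI := h.act
  have S := h.s0
  obtain ⟨A, B, hne, e⟩ := H G D Subtype.val ⟨S, by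
    obtain ⟨A, hA, -⟩ := nt
    obtain ⟨a, -, a1⟩ := exists_gen11 (h.card A hA)
    have : Nontrivial G := ⟨a, 1, a1⟩
    exact ⟨fun N _ => or_iff_not_imp_right.2 fun h1 => le_bot_iff.1 (hZ ▸ h.central hD N h1)⟩,
    nt.coe_sort, fun y y1 A B hne yA yB => by
    set M := sSup {C | C ∈ D ∧ y ∈ 𝐂[C]} with hM
    have My : M ≤ centralizer {y} := sSup_le fun C hC x hx =>
      mem_centralizer_singleton_iff.2 (mem_centralizer_iff.1 hC.2 x hx)
    have Mt : M ≠ ⊤ := fun e => y1 ((eq_bot_iff_forall _).1 hZ y (mem_center_iff.2 fun g =>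
      mem_centralizer_singleton_iff.1 (My (e ▸ mem_top g))))
    have inj := map_injective M.subtype_injective
    have sub : ∀ C ∈ D, y ∈ 𝐂[C] → (C.subgroupOf M).map M.subtype = C := fun C h1 h2 =>
      map_subgroupOf_of_le (le_sSup ⟨h1, h2⟩)
    obtain ⟨A', hA', B', hB', hne', e⟩ := ih _ (Grp.card_lt_of_ne_top Mt) M rfl
      {X | X.map M.subtype ∈ D} ⟨fun g X hX => by
        change _ ∈ D
        rw [map_subtype_cj]
        exact h.cj _ _ hX, fun X hX => by
        rw [← card_map_of_injective M.subtype_injective, h.card _ hX], fun X hX Y hY hne => by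
        have := h.pair _ hX _ hY fun e => hne (inj e)
        rw [← Subgroup.map_sup] at this
        exact this.of_equiv (equivMapOfInjective _ _ M.subtype_injective).symm⟩
      ⟨A.1.subgroupOf M, by change _ ∈ D; rw [sub _ A.2 yA]; exact A.2, B.1.subgroupOf M,
        by change _ ∈ D; rw [sub _ B.2 yB]; exact B.2, fun e => hne (Subtype.ext (by
          rw [← sub _ A.2 yA, e, sub _ B.2 yB]))⟩ (by
        refine inj (le_antisymm (map_mono le_top) ?_)
        rw [← MonoidHom.range_eq_map, range_subtype]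
        refine sSup_le fun C hC => ?_
        rw [← sub C hC.1 hC.2]
        exact map_mono (le_sSup (by change _ ∈ D; rw [sub C hC.1 hC.2]; exact hC.1)))
    refine ⟨⟨_, hA'⟩, ⟨_, hB'⟩, fun e => hne' (inj (congrArg Subtype.val e)), fun C => ?_⟩
    change _ ↔ C.1 ≤ A'.map M.subtype ⊔ B'.map M.subtype
    rw [← Subgroup.map_sup, e, ← MonoidHom.range_eq_map, range_subtype]
    exact ⟨fun h1 => le_sSup ⟨C.2, h1⟩, fun h1 => mem_centralizer_iff.2 fun x hx =>
      mem_centralizer_singleton_iff.1 (My (h1 hx))⟩⟩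
  exact ⟨A, A.2, B, B.2, fun e => hne (Subtype.ext e), e⟩

end Cfsg.Agent.E11
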