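import Mathlib
import Cfsg.Agent.E11.Red
import Cfsg.Agent.Transfer.ThompsonTransfer
import Cfsg.Agent.S0205

/-! Transfer lemmas. -/

set_option autoImplicit false
set_option linter.unusedSectionVars false

namespace Cfsg.Agent.E11

open Subgroup MulAction Cfsg.Agent.PLocal.Amb Cfsg.Agent.TwoTr

variable {G : Type*} [Group G]

theorem exists_proj {X : Type*} [Group X] (ι : X →* G) {M K : Subgroup G}
    (hc : ∀ m ∈ M, ∀ k ∈ K, m * k = k * m) (hi : M ⊓ K = ⊥)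
    (hN : ∀ x, ∃ m ∈ M, ∃ k ∈ K, ι x = m * k) : ∃ π : X →* K, ∀ x, ι x * (π x : G)⁻¹ ∈ M := by
  have h1 : ∀ x, ∃ k : K, ι x * (k : G)⁻¹ ∈ M := fun x => by
    obtain ⟨m, hm, k, hk, e⟩ := hN x
    exact ⟨⟨k, hk⟩, by rwa [e, mul_inv_cancel_right]⟩
  choose f hf using h1
  refine ⟨MonoidHom.mk' f fun x y => Subtype.ext ?_, hf⟩
  have h2 : (ι (x * y) * ((f x : G) * f y)⁻¹) ∈ M := by
    have := mul_mem (hf x) (hf y)
    rwa [mul_assoc, ← hc _ (hf y) _ (inv_mem (f x).2), mul_assoc, ← mul_inv_rev, ← mul_assoc,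
      ← map_mul] at this
  rw [← mul_inv_eq_one]
  refine (eq_bot_iff_forall _).1 hi _ ⟨?_, mul_mem (f (x * y)).2 (K.inv_mem (f x * f y).2)⟩
  have := mul_mem (inv_mem (hf (x * y))) h2
  rwa [mul_inv_rev, inv_inv, mul_assoc, inv_mul_cancel_left] at this

theorem proj_eq {M K : Subgroup G} (hi : M ⊓ K = ⊥) {y : G} (hy : y ∈ K) {k : K}
    (h : y * (k : G)⁻¹ ∈ M) : k = ⟨y, hy⟩ :=
  Subtype.ext (mul_inv_eq_one.1 ((eq_bot_iff_forall _).1 hi _ ⟨h, mul_mem hy (K.inv_mem k.2)⟩)).symm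

variable [Finite G]

theorem index_coprime {N : Subgroup G} {y : G} (hy : y ∈ N)
    (h : ∀ (k : ℕ) (g : G), y ^ k ≠ 1 → g⁻¹ * y ^ k * g ∈ N → g ∈ N) :
    (orderOf y).Coprime N.index := by
  refine Nat.coprime_of_dvd fun p hp ⟨k, hk⟩ h2 => ?_
  have h0 := orderOf_pos y
  have h3 : y ^ k ≠ 1 := pow_ne_one_of_lt_orderOf (by rintro rfl; omega) (by
    rw [hk]; exact lt_mul_of_one_lt_left (Nat.pos_of_ne_zero (by rintro rfl; omega)) hp.one_lt)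
  have h4 := Kos.card_modEq_fx (Ω := G ⧸ N) (k := 1) hp (x := y ^ k)
    (by rw [pow_one, ← pow_mul, mul_comm, ← hk, pow_orderOf_eq_one])
  have h5 : Nat.card (Uq.Fx (G ⧸ N) (y ^ k)) = 1 := Nat.card_eq_one_iff_exists.2
    ⟨⟨((1 : G) : G ⧸ N), QuotientGroup.eq.2 (by simpa using pow_mem hy k)⟩, by
      rintro ⟨c, hc⟩
      obtain ⟨g, rfl⟩ := QuotientGroup.mk_surjective c
      refine Subtype.ext (QuotientGroup.eq.2 ?_)
      have := QuotientGroup.eq.1 (show ((g : G) : G ⧸ N) = (y ^ k * g : G) from hc.symm)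
      simpa using h k g h3 (by rwa [mul_assoc])⟩
  rw [h5] at h4
  exact hp.one_lt.ne' (Nat.dvd_one.1 ((Nat.ModEq.dvd_iff h4 dvd_rfl).1 h2))

theorem transfer_key {N : Subgroup G} {A : Type*} [CommGroup A] (φ : N →* A) {y : G} (hy : y ∈ N)
    (h : ∀ (k : ℕ) (g : G), y ^ k ≠ 1 → g⁻¹ * y ^ k * g ∈ N → g ∈ N) :
    MonoidHom.transfer φ y = φ ⟨y, hy⟩ ^ N.index := by
  refine Transfer.transfer_eq_pow_of_forall φ y _ fun g k hk => ?_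
  rw [← map_pow]
  by_cases e : y ^ k = 1
  · exact congrArg φ (Subtype.ext (by simp [e]))
  · have hg := h k g e hk
    rw [show (⟨_, hk⟩ : N) = ⟨g, hg⟩⁻¹ * ⟨y, hy⟩ ^ k * ⟨g, hg⟩ from rfl, map_mul, map_mul, map_inv,
      inv_mul_cancel_comm]

theorem hom_eq_one (hG : _root_.commutator G = ⊤) {A : Type*} [CommGroup A] (φ : G →* A) (g : G) :
    φ g = 1 := Abelianization.commutator_subset_ker φ (hG ▸ mem_top g)

theorem phi_eq_one (hG : _root_.commutator G = ⊤) {N : Subgroup G} {A : Type*} [CommGroup A]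
    (φ : N →* A) {y : G} (hy : y ∈ N)
    (h : ∀ (k : ℕ) (g : G), y ^ k ≠ 1 → g⁻¹ * y ^ k * g ∈ N → g ∈ N) : φ ⟨y, hy⟩ = 1 := by
  have h1 := transfer_key φ hy h
  rw [hom_eq_one hG] at h1
  exact orderOf_eq_one_iff.1 (((index_coprime hy h).coprime_dvd_left
    ((orderOf_map_dvd φ _).trans (orderOf_coe (⟨y, hy⟩ : N)).symm.dvd)).eq_one_of_dvd
      (orderOf_dvd_of_pow_eq_one h1.symm))

theorem nontrivial_ab {K : Subgroup G} (ho : Odd (Nat.card K)) (h1 : K ≠ ⊥) :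
    ∃ y : K, Abelianization.of y ≠ 1 := by
  have := S0205.result (G := K) ho
  have := (nontrivial_iff_ne_bot K).2 h1
  obtain ⟨y, -, hy⟩ := SetLike.exists_of_lt (Group.IsSolvable.commutator_lt_top_of_nontrivial K)
  exact ⟨y, fun e => hy (by rwa [← Abelianization.ker_of])⟩

theorem ab_surj (K : Type*) [Group K] : Function.Surjective (Abelianization.of (G := K)) :=
  QuotientGroup.mk_surjective

theorem lemT {C N M K : Subgroup G} (hM : M ≤ C) (hK : K ≤ N)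
    (hc : ∀ m ∈ M, ∀ k ∈ K, m * k = k * m) (hi : M ⊓ K = ⊥)
    (hN : ∀ n ∈ C, n ∈ N → ∃ m ∈ M, ∃ k ∈ K, n = m * k) (ho : Odd (Nat.card K))
    (hgen : ∀ Y : Subgroup G, (∀ a ∈ M, a * a = 1 → a ∈ Y) → M ≤ Y)
    (hw : ∀ y ∈ K, y ≠ 1 → ∀ g ∈ C, g⁻¹ * y * g ∈ N → g ∈ N) :
    ∃ Y ≤ C, M ≤ Y ∧ Y ⊓ K = ⊥ ∧ ∀ g ∈ C, ∃ y ∈ Y, ∃ k ∈ K, g = y * k := by
  obtain ⟨Y, ⟨h1, h2, h3⟩, hmin⟩ := (wellFounded_lt (α := Subgroup G)).has_min
    {Y | Y ≤ C ∧ M ≤ Y ∧ ∀ g ∈ C, ∃ y ∈ Y, ∃ k ∈ K, g = y * k}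
    ⟨C, le_rfl, hM, fun g hg => ⟨g, hg, 1, one_mem _, (mul_one g).symm⟩⟩
  refine ⟨Y, h1, h2, by_contra fun hne => ?_, h3⟩
  have hi' : M ⊓ (Y ⊓ K) = ⊥ := le_bot_iff.1 ((inf_le_inf_left _ inf_le_right).trans hi.le)
  have ho' : Odd (Nat.card ↥(Y ⊓ K)) := ho.of_dvd_nat (card_dvd_of_le inf_le_right)
  obtain ⟨π, hπ⟩ := exists_proj (Y.subtype.comp (N.subgroupOf Y).subtype) (M := M) (K := Y ⊓ K)
    (fun m hm k hk => hc m hm k hk.2) hi' fun x => by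
      obtain ⟨m, hm, k, hk, e⟩ := hN _ (h1 x.1.2) x.2
      refine ⟨m, hm, k, ⟨?_, hk⟩, e⟩
      have := mul_mem (inv_mem (h2 hm)) x.1.2
      rwa [e, inv_mul_cancel_left] at this
  set V := MonoidHom.transfer (Abelianization.of.comp π) with hV
  have key : ∀ y : ↥(Y ⊓ K), ∃ k : ↥(Y ⊓ K), V ⟨k, k.2.1⟩ = Abelianization.of y := fun y => by
    have hw' : ∀ z : ↥(Y ⊓ K), ∀ (k : ℕ) (g : Y), (⟨z, z.2.1⟩ : Y) ^ k ≠ 1 →
        g⁻¹ * ⟨z, z.2.1⟩ ^ k * g ∈ N.subgroupOf Y → g ∈ N.subgroupOf Y := fun z k g e hg =>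
      hw _ (pow_mem z.2.2 k) (fun e' => e (Subtype.ext e')) _ (h1 g.2) hg
    have c := index_coprime (N := N.subgroupOf Y) (y := ⟨y, y.2.1⟩) (hK y.2.2) (hw' y)
    rw [← orderOf_coe] at c
    obtain ⟨m, hm⟩ := exists_pow_eq_self_of_coprime (x := y) (orderOf_coe y ▸ c.symm)
    refine ⟨y ^ m, ?_⟩
    refine (transfer_key (N := N.subgroupOf Y) _ (hK (y ^ m).2.2) (hw' _)).trans ?_
    have e := proj_eq hi' (y ^ m).2 (hπ ⟨⟨_, (y ^ m).2.1⟩, hK (y ^ m).2.2⟩)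
    refine (congrArg (fun z => Abelianization.of z ^ (N.subgroupOf Y).index) e).trans ?_
    change Abelianization.of (y ^ m) ^ _ = _
    rw [← map_pow, ← pow_mul, mul_comm, pow_mul, hm]
  refine hmin (V.ker.map Y.subtype) ⟨(map_subtype_le _).trans h1, hgen _ fun a ha a2 =>
    ⟨⟨a, h2 ha⟩, ?_, rfl⟩, fun g hg => ?_⟩ (lt_of_le_of_ne (map_subtype_le _) fun e => ?_)
  · obtain ⟨y, hy⟩ := ab_surj _ (V ⟨a, h2 ha⟩)
    have h4 : V ⟨a, h2 ha⟩ ^ 2 = 1 := by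
      rw [← map_pow, show (⟨a, h2 ha⟩ : Y) ^ 2 = 1 from Subtype.ext (by simpa [pow_two] using a2),
        map_one]
    have h5 : V ⟨a, h2 ha⟩ ^ Nat.card ↥(Y ⊓ K) = 1 := by rw [← hy, ← map_pow, pow_card_eq_one', map_one]
    obtain ⟨n, hn⟩ := ho'
    rwa [hn, pow_succ, pow_mul, h4, one_pow, one_mul] at h5
  · obtain ⟨y, hy, k, hk, rfl⟩ := h3 g hg
    obtain ⟨z, hz⟩ := ab_surj _ (V ⟨y, hy⟩)
    obtain ⟨l, hl⟩ := key z
    refine ⟨_, ⟨⟨y, hy⟩ * ⟨l, l.2.1⟩⁻¹, ?_, rfl⟩, l * k, mul_mem l.2.2 hk, by simp [mul_assoc]⟩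
    change V _ = 1
    rw [map_mul, map_inv, hl, hz, mul_inv_cancel]
  · obtain ⟨y, hy⟩ := nontrivial_ab ho' hne
    obtain ⟨l, hl⟩ := key y
    exact hy (hl ▸ mem_map_subtype.1 (e.ge l.2.1))

end Cfsg.Agent.E11
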